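import Mathlib
import Groth.Prelude.Def_ega3
import Groth.Agent.Lib.Helper8.Koszul6

/-!
# Transition maps between Koszul complexes of powers
-/

namespace Groth.Agent.Helper9.KosLim

open CategoryTheory CategoryTheory.Limits CochainComplex CohIII
open Groth.Agent.Helper8.KoszulLib

universe u

variable {A : Type u} [CommRing A]

section general

variable {C : Type*} [Category* C] [Preadditive C] [HasBinaryBiproducts C]
variable {K₁ L₁ K₂ L₂ : CochainComplex C ℤ} (φ₁ : K₁ ⟶ L₁) (φ₂ : K₂ ⟶ L₂)

theorem map_congr {a a' : K₁ ⟶ K₂} {b b' : L₁ ⟶ L₂} (comm : φ₁ ≫ b = a ≫ φ₂)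
    (ha : a = a') (hb : b = b') :
    mappingCone.map φ₁ φ₂ a b comm = mappingCone.map φ₁ φ₂ a' b' (by rw [← ha, ← hb, comm]) := by
  subst ha hb
  rfl

end general

theorem koszulTrans_refl (M : ModuleCat.{u} A) (n : ℕ) (fs : List A) :
    koszulTrans M n n le_rfl fs = 𝟙 _ := by
  induction fs with
  | nil => rfl
  | cons f fs ih =>
    show mappingCone.map _ _ (koszulTrans M n n _ fs) (f ^ (n - n) • koszulTrans M n n _ fs) _ = 𝟙 _
    rw [map_congr _ _ _ ih (by rw [ih, Nat.sub_self, pow_zero, one_smul])]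
    exact mappingCone.map_id _

theorem koszulTrans_comp (M : ModuleCat.{u} A) (n m l : ℕ) (h : n ≤ m) (h' : m ≤ l)
    (fs : List A) :
    koszulTrans M n m h fs ≫ koszulTrans M m l h' fs = koszulTrans M n l (h.trans h') fs := by
  induction fs with
  | nil => exact Category.id_comp _
  | cons f fs ih =>
    show mappingCone.map _ _ (koszulTrans M n m h fs) (f ^ (m - n) • koszulTrans M n m h fs) _ ≫
      mappingCone.map _ _ (koszulTrans M m l h' fs) (f ^ (l - m) • koszulTrans M m l h' fs) _ =
      mappingCone.map _ _ (koszulTrans M n l _ fs) (f ^ (l - n) • koszulTrans M n l _ fs) _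
    rw [← mappingCone.map_comp]
    apply map_congr _ _ _ ih
    rw [Linear.smul_comp, Linear.comp_smul, smul_smul, ih]
    congr 1
    rw [← pow_add]
    congr 1
    omega

theorem koszulMap_koszulTrans {M N : ModuleCat.{u} A} (g : M ⟶ N) (n m : ℕ) (h : n ≤ m)
    (fs : List A) :
    koszulMap g (fs.map (· ^ n)) ≫ koszulTrans N n m h fs =
      koszulTrans M n m h fs ≫ koszulMap g (fs.map (· ^ m)) := by
  induction fs with
  | nil => exact (Category.comp_id _).trans (Category.id_comp _).symm
  | cons f fs ih =>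
    show mappingCone.map _ _ (koszulMap g (fs.map (· ^ n))) (koszulMap g (fs.map (· ^ n))) _ ≫
      mappingCone.map _ _ (koszulTrans N n m h fs) (f ^ (m - n) • koszulTrans N n m h fs) _ =
      mappingCone.map _ _ (koszulTrans M n m h fs) (f ^ (m - n) • koszulTrans M n m h fs) _ ≫
      mappingCone.map _ _ (koszulMap g (fs.map (· ^ m))) (koszulMap g (fs.map (· ^ m))) _
    rw [← mappingCone.map_comp, ← mappingCone.map_comp]
    apply map_congr _ _ _ ih
    rw [Linear.comp_smul, Linear.smul_comp, ih]

end Groth.Agent.Helper9.KosLim
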