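import Mathlib
import Groth.Agent.Lib.Helper9.KosLim.Trans

/-!
# Direct limits over `ℕ`: exactness; the Koszul direct system
-/

namespace Groth.Agent.Helper9.KosLim

open CategoryTheory CategoryTheory.Limits CochainComplex CohIII
open Groth.Agent.Helper8.KoszulLib

universe u

section DL

variable {R : Type*} [CommRing R]
variable {G G' G'' : ℕ → Type*} [∀ i, AddCommGroup (G i)] [∀ i, Module R (G i)]
  [∀ i, AddCommGroup (G' i)] [∀ i, Module R (G' i)]
  [∀ i, AddCommGroup (G'' i)] [∀ i, Module R (G'' i)]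
  (f : ∀ i j, i ≤ j → G i →ₗ[R] G j) (f' : ∀ i j, i ≤ j → G' i →ₗ[R] G' j)
  (f'' : ∀ i j, i ≤ j → G'' i →ₗ[R] G'' j)

theorem dl_map_exact [DirectedSystem G'' fun i j h => f'' i j h]
    (a : ∀ i, G i →ₗ[R] G' i) (b : ∀ i, G' i →ₗ[R] G'' i)
    (ha : ∀ i j h, a j ∘ₗ f i j h = f' i j h ∘ₗ a i)
    (hb : ∀ i j h, b j ∘ₗ f' i j h = f'' i j h ∘ₗ b i)
    (hex : ∀ i, Function.Exact (a i) (b i)) :
    Function.Exact (Module.DirectLimit.map (f := f) (f' := f') a ha)
      (Module.DirectLimit.map (f := f') (f' := f'') b hb) := by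
  intro z
  constructor
  · intro hz
    obtain ⟨i, y, rfl⟩ := Module.DirectLimit.exists_of z
    rw [Module.DirectLimit.map_apply_of] at hz
    obtain ⟨j, hij, hj⟩ := Module.DirectLimit.of.zero_exact hz
    have h1 : b j (f' i j hij y) = 0 := by
      have := LinearMap.congr_fun (hb i j hij) y
      simp only [LinearMap.comp_apply] at this
      rw [this, hj]
    obtain ⟨x, hx⟩ := (hex j _).mp h1
    refine ⟨Module.DirectLimit.of R ℕ G f j x, ?_⟩
    rw [Module.DirectLimit.map_apply_of, hx, Module.DirectLimit.of_f]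
  · rintro ⟨w, rfl⟩
    obtain ⟨i, x, rfl⟩ := Module.DirectLimit.exists_of w
    rw [Module.DirectLimit.map_apply_of, Module.DirectLimit.map_apply_of]
    have : b i (a i x) = 0 := (hex i _).mpr ⟨x, rfl⟩
    rw [this, map_zero]

theorem dl_subsingleton_of_forall (h : ∀ i (x : G i), ∃ j, ∃ hij : i ≤ j, f i j hij x = 0) :
    Subsingleton (Module.DirectLimit G f) := by
  refine ⟨fun z w => ?_⟩
  suffices hh : ∀ z : Module.DirectLimit G f, z = 0 by rw [hh z, hh w]
  intro z
  obtain ⟨i, x, rfl⟩ := Module.DirectLimit.exists_of z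
  obtain ⟨j, hij, hj⟩ := h i x
  rw [← Module.DirectLimit.of_f (hij := hij), hj, map_zero]

theorem dl_forall_of_subsingleton [DirectedSystem G fun i j h => f i j h]
    (h : Subsingleton (Module.DirectLimit G f)) (i : ℕ) (x : G i) :
    ∃ j, ∃ hij : i ≤ j, f i j hij x = 0 :=
  Module.DirectLimit.of.zero_exact (h.elim _ _)

end DL

variable {A : Type u} [CommRing A]

/-- Koszul cohomology of the `n`-th powers in degree `q : ℤ` -/
noncomputable abbrev Hq (fs : List A) (M : ModuleCat.{u} A) (q : ℤ) (n : ℕ) : ModuleCat.{u} A :=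
  (koszulCx M (fs.map (· ^ n))).homology q

/-- transition maps -/
noncomputable def trq (fs : List A) (M : ModuleCat.{u} A) (q : ℤ) (n m : ℕ) (h : n ≤ m) :
    Hq fs M q n →ₗ[A] Hq fs M q m :=
  (HomologicalComplex.homologyMap (koszulTrans M n m h fs) q).hom

theorem trq_refl (fs : List A) (M : ModuleCat.{u} A) (q : ℤ) (n : ℕ) (x : Hq fs M q n) :
    trq fs M q n n le_rfl x = x := by
  unfold trq
  rw [koszulTrans_refl, HomologicalComplex.homologyMap_id]
  rfl

theorem trq_trq (fs : List A) (M : ModuleCat.{u} A) (q : ℤ) (n m l : ℕ) (h : n ≤ m) (h' : m ≤ l)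
    (x : Hq fs M q n) : trq fs M q m l h' (trq fs M q n m h x) = trq fs M q n l (h.trans h') x := by
  unfold trq
  rw [← koszulTrans_comp M n m l h h' fs, HomologicalComplex.homologyMap_comp]
  rfl

instance (fs : List A) (M : ModuleCat.{u} A) (q : ℤ) :
    DirectedSystem (fun n => Hq fs M q n) (fun n m h => trq fs M q n m h) where
  map_self n x := trq_refl fs M q n x
  map_map _ _ _ h h' x := trq_trq fs M q _ _ _ h h' x

/-- the direct limit of Koszul cohomology of powers in degree `q : ℤ` -/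
noncomputable abbrev TL (fs : List A) (M : ModuleCat.{u} A) (q : ℤ) : Type u :=
  Module.DirectLimit (fun n => Hq fs M q n) (fun n m h => trq fs M q n m h)

/-- functoriality in the module -/
noncomputable def mapq {M N : ModuleCat.{u} A} (g : M ⟶ N) (fs : List A) (q : ℤ) (n : ℕ) :
    Hq fs M q n →ₗ[A] Hq fs N q n :=
  (HomologicalComplex.homologyMap (koszulMap g (fs.map (· ^ n))) q).hom

theorem mapq_trq {M N : ModuleCat.{u} A} (g : M ⟶ N) (fs : List A) (q : ℤ) (n m : ℕ)
    (h : n ≤ m) : mapq g fs q m ∘ₗ trq fs M q n m h = trq fs N q n m h ∘ₗ mapq g fs q n := by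
  unfold mapq trq
  rw [← ModuleCat.hom_comp, ← ModuleCat.hom_comp, ← HomologicalComplex.homologyMap_comp,
    ← HomologicalComplex.homologyMap_comp, koszulMap_koszulTrans]

/-- induced map on the limits -/
noncomputable def mapTL {M N : ModuleCat.{u} A} (g : M ⟶ N) (fs : List A) (q : ℤ) :
    TL fs M q →ₗ[A] TL fs N q :=
  Module.DirectLimit.map (fun n => mapq g fs q n) (fun n m h => mapq_trq g fs q n m h)

theorem koszulHLim_eq (fs : List A) (M : ModuleCat.{u} A) (p : ℕ) :
    koszulHLim fs M p = TL fs M ((p : ℤ) - fs.length) := rfl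

end Groth.Agent.Helper9.KosLim
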