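import Mathlib
import Groth.Agent.Lib.Helper9.KosLim.DL

/-!
# The long exact sequence of the Koszul direct limit for a short exact sequence of modules
-/

namespace Groth.Agent.Helper9.KosLim

open CategoryTheory CategoryTheory.Limits CochainComplex CohIII
open Groth.Agent.Helper8.KoszulLib

universe u

variable {A : Type u} [CommRing A]

section SES

variable {S : ShortComplex (ModuleCat.{u} A)} (hS : S.ShortExact)

include hS in
theorem degreewiseSES_of_shortExact (l : List A) :
    DegreewiseSES (koszulMap S.f l) (koszulMap S.g l) :=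
  degreewiseSES_koszulMap S.f S.g hS.moduleCat_injective_f hS.moduleCat_surjective_g
    ((ShortComplex.ShortExact.moduleCat_exact_iff_function_exact S).mp hS.exact) l

include hS in
theorem koszulMap_comp_zero (l : List A) : koszulMap S.f l ≫ koszulMap S.g l = 0 :=
  (degreewiseSES_of_shortExact hS l).shortExact.choose

/-- the short complex of Koszul complexes -/
noncomputable def kSC (l : List A) : ShortComplex (CochainComplex (ModuleCat.{u} A) ℤ) :=
  ShortComplex.mk (koszulMap S.f l) (koszulMap S.g l) (koszulMap_comp_zero hS l)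

theorem kSC_shortExact (l : List A) : (kSC hS l).ShortExact :=
  (degreewiseSES_of_shortExact hS l).shortExact.choose_spec

variable (fs : List A)

/-- transition between the short complexes -/
noncomputable def kSCtrans (n m : ℕ) (h : n ≤ m) :
    kSC hS (fs.map (· ^ n)) ⟶ kSC hS (fs.map (· ^ m)) where
  τ₁ := koszulTrans S.X₁ n m h fs
  τ₂ := koszulTrans S.X₂ n m h fs
  τ₃ := koszulTrans S.X₃ n m h fs
  comm₁₂ := (koszulMap_koszulTrans S.f n m h fs).symm
  comm₂₃ := (koszulMap_koszulTrans S.g n m h fs).symm

/-- levelwise connecting map -/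
noncomputable def δq (q q' : ℤ) (hq : q + 1 = q') (n : ℕ) :
    Hq fs S.X₃ q n →ₗ[A] Hq fs S.X₁ q' n :=
  ((kSC_shortExact hS (fs.map (· ^ n))).δ q q' (show (ComplexShape.up ℤ).Rel q q' from hq)).hom

theorem δq_trq (q q' : ℤ) (hq : q + 1 = q') (n m : ℕ) (h : n ≤ m) :
    δq hS fs q q' hq m ∘ₗ trq fs S.X₃ q n m h = trq fs S.X₁ q' n m h ∘ₗ δq hS fs q q' hq n := by
  have key := HomologicalComplex.HomologySequence.δ_naturality (kSCtrans hS fs n m h)
    (kSC_shortExact hS (fs.map (· ^ n))) (kSC_shortExact hS (fs.map (· ^ m))) q q'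
    (show (ComplexShape.up ℤ).Rel q q' from hq)
  apply LinearMap.ext
  intro x
  exact congrArg (fun g => g.hom x) key.symm

/-- the connecting map on the limits -/
noncomputable def δTL (q q' : ℤ) (hq : q + 1 = q') : TL fs S.X₃ q →ₗ[A] TL fs S.X₁ q' :=
  Module.DirectLimit.map (fun n => δq hS fs q q' hq n) (fun n m h => δq_trq hS fs q q' hq n m h)

include hS in
theorem exact_mapTL (q : ℤ) : Function.Exact (mapTL S.f fs q) (mapTL S.g fs q) := by
  apply dl_map_exact
  intro n
  have := (kSC_shortExact hS (fs.map (· ^ n))).homology_exact₂ q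
  rw [ShortComplex.ShortExact.moduleCat_exact_iff_function_exact] at this
  exact this

theorem exact_mapTL_δTL (q q' : ℤ) (hq : q + 1 = q') :
    Function.Exact (mapTL S.g fs q) (δTL hS fs q q' hq) := by
  apply dl_map_exact
  intro n
  have := (kSC_shortExact hS (fs.map (· ^ n))).homology_exact₃ q q'
    (show (ComplexShape.up ℤ).Rel q q' from hq)
  rw [ShortComplex.ShortExact.moduleCat_exact_iff_function_exact] at this
  exact this

theorem exact_δTL_mapTL (q q' : ℤ) (hq : q + 1 = q') :
    Function.Exact (δTL hS fs q q' hq) (mapTL S.f fs q') := by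
  apply dl_map_exact
  intro n
  have := (kSC_shortExact hS (fs.map (· ^ n))).homology_exact₁ q q'
    (show (ComplexShape.up ℤ).Rel q q' from hq)
  rw [ShortComplex.ShortExact.moduleCat_exact_iff_function_exact] at this
  exact this

end SES

end Groth.Agent.Helper9.KosLim
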