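import Mathlib
import Groth.Agent.Lib.Helper8.Koszul1

/-!
# Naturality of the long exact sequence of a mapping cone
-/

namespace Groth.Agent.Helper9.KosLim

open CategoryTheory CategoryTheory.Limits CochainComplex HomotopyCategory
open Groth.Agent.Helper8.KoszulLib

universe u v

variable {C : Type u} [Category.{v} C] [Abelian C]

variable {K₁ L₁ K₂ L₂ : CochainComplex C ℤ} (φ₁ : K₁ ⟶ L₁) (φ₂ : K₂ ⟶ L₂)
  (a : K₁ ⟶ K₂) (b : L₁ ⟶ L₂) (comm : φ₁ ≫ b = a ≫ φ₂)

theorem inr_map :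
    mappingCone.inr φ₁ ≫ mappingCone.map φ₁ φ₂ a b comm = b ≫ mappingCone.inr φ₂ :=
  (mappingCone.triangleMap φ₁ φ₂ a b comm).comm₂

theorem homologyMap_inr_map (n : ℤ) :
    HomologicalComplex.homologyMap (mappingCone.inr φ₁) n ≫
      HomologicalComplex.homologyMap (mappingCone.map φ₁ φ₂ a b comm) n =
    HomologicalComplex.homologyMap b n ≫ HomologicalComplex.homologyMap (mappingCone.inr φ₂) n := by
  rw [← HomologicalComplex.homologyMap_comp, ← HomologicalComplex.homologyMap_comp, inr_map]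

/-- the induced morphism of triangles in the homotopy category -/
noncomputable def trianglehMap : mappingCone.triangleh φ₁ ⟶ mappingCone.triangleh φ₂ :=
  (HomotopyCategory.quotient C (ComplexShape.up ℤ)).mapTriangle.map
    (mappingCone.triangleMap φ₁ φ₂ a b comm)

theorem coneδ'_naturality (n₀ n₁ : ℤ) (h : n₀ + 1 = n₁) :
    (homologyFunctor C (ComplexShape.up ℤ) n₀).map
        ((quotient C (ComplexShape.up ℤ)).map (mappingCone.map φ₁ φ₂ a b comm)) ≫
      coneδ' φ₂ n₀ n₁ h =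
    coneδ' φ₁ n₀ n₁ h ≫
      (homologyFunctor C (ComplexShape.up ℤ) n₁).map ((quotient C (ComplexShape.up ℤ)).map a) :=
  (homologyFunctor C (ComplexShape.up ℤ) 0).homologySequenceδ_naturality _ _
    (trianglehMap φ₁ φ₂ a b comm) n₀ n₁ h

theorem coneδ_naturality (n₀ n₁ : ℤ) (h : n₀ + 1 = n₁) :
    HomologicalComplex.homologyMap (mappingCone.map φ₁ φ₂ a b comm) n₀ ≫ coneδ φ₂ n₀ n₁ h =
      coneδ φ₁ n₀ n₁ h ≫ HomologicalComplex.homologyMap a n₁ := by
  unfold coneδ
  rw [reassoc_of% (hff_nat' (mappingCone.map φ₁ φ₂ a b comm) n₀),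
    reassoc_of% (coneδ'_naturality φ₁ φ₂ a b comm n₀ n₁ h)]
  simp only [Category.assoc]
  rw [hff_nat a n₁]

end Groth.Agent.Helper9.KosLim
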