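import Mathlib
import Groth.Agent.Lib.Helper9.KosLim.Cone
import Groth.Agent.Lib.Helper9.KosLim.DL
import Groth.Agent.Lib.Helper8.Koszul3

/-!
# Bottom Koszul cohomology as a submodule of the module
-/

namespace Groth.Agent.Helper9.KosLim

open CategoryTheory CategoryTheory.Limits CochainComplex CohIII
open Groth.Agent.Helper8.KoszulLib

universe u

variable {A : Type u} [CommRing A]

/-- evaluation of the bottom Koszul cohomology into the module -/
noncomputable def ev (M : ModuleCat.{u} A) :
    ∀ (l : List A) (q : ℤ), q + l.length = 0 → ((koszulCx M l).homology q →ₗ[A] M)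
  | [], q, h =>
      (HomologicalComplex.singleObjHomologySelfIso (ComplexShape.up ℤ) 0 M).hom.hom ∘ₗ
        (homologyCongr (koszulCx M []) (show q = 0 by simpa using h)).toLinearMap
  | f :: l, q, h =>
      ev M l (q + 1) (by rw [List.length_cons] at h; push_cast at h; omega) ∘ₗ
        (coneδ (f • 𝟙 (koszulCx M l)) q (q + 1) rfl).hom

theorem ev_cons (M : ModuleCat.{u} A) (f : A) (l : List A) (q : ℤ) (h : q + (f :: l).length = 0)
    (x : (koszulCx M (f :: l)).homology q) :
    ev M (f :: l) q h x = ev M l (q + 1) (by rw [List.length_cons] at h; push_cast at h; omega)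
      ((coneδ (f • 𝟙 (koszulCx M l)) q (q + 1) rfl).hom x) := rfl

theorem coneδ_injective (M : ModuleCat.{u} A) (f : A) (l : List A) (q : ℤ)
    (h : q + (f :: l).length = 0) :
    Function.Injective (coneδ (f • 𝟙 (koszulCx M l)) q (q + 1) rfl).hom := by
  have hex := cone_exact₃ (f • 𝟙 (koszulCx M l)) q (q + 1) rfl
  rw [ShortComplex.ShortExact.moduleCat_exact_iff_function_exact] at hex
  have hz : IsZero ((koszulCx M l).homology q) :=
    isZero_homology_of_lt M l q (by rw [List.length_cons] at h; push_cast at h; omega)
  have hs : Subsingleton ((koszulCx M l).homology q) := ModuleCat.subsingleton_of_isZero hz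
  rw [injective_iff_map_eq_zero]
  intro x hx
  obtain ⟨y, rfl⟩ := (hex x).mp hx
  rw [hs.elim y 0, map_zero]

theorem mem_range_coneδ (M : ModuleCat.{u} A) (f : A) (l : List A) (q : ℤ)
    (y : (koszulCx M l).homology (q + 1)) :
    y ∈ LinearMap.range (coneδ (f • 𝟙 (koszulCx M l)) q (q + 1) rfl).hom ↔ f • y = 0 := by
  have hex := cone_exact₁ (f • 𝟙 (koszulCx M l)) q (q + 1) rfl
  rw [ShortComplex.ShortExact.moduleCat_exact_iff_function_exact] at hex
  have h1 := hex y
  have h2 : (HomologicalComplex.homologyMap (f • 𝟙 (koszulCx M l)) (q + 1)).hom y = f • y := by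
    rw [homologyMap_smul_id]
    rfl
  rw [LinearMap.mem_range]
  constructor
  · intro hy
    rw [← h2]
    exact h1.mpr hy
  · intro hy
    rw [← h2] at hy
    exact h1.mp hy

theorem ev_spec (M : ModuleCat.{u} A) : ∀ (l : List A) (q : ℤ) (h : q + l.length = 0),
    Function.Injective (ev M l q h) ∧
      ∀ m : M, m ∈ LinearMap.range (ev M l q h) ↔ ∀ f ∈ l, f • m = 0 := by
  intro l
  induction l with
  | nil =>
    intro q h
    have hbij : Function.Bijective (ev M [] q h) := by
      show Function.Bijective
        (⇑((HomologicalComplex.singleObjHomologySelfIso (ComplexShape.up ℤ) 0 M).hom.hom) ∘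
          ⇑(homologyCongr (koszulCx M []) (show q = 0 by simpa using h)))
      exact Function.Bijective.comp (ConcreteCategory.bijective_of_isIso
        (HomologicalComplex.singleObjHomologySelfIso (ComplexShape.up ℤ) 0 M).hom)
        (LinearEquiv.bijective _)
    refine ⟨hbij.1, fun m => ?_⟩
    constructor
    · intro _ f hf
      simp at hf
    · intro _
      exact hbij.2 m
  | cons f l ih =>
    intro q h
    have hq : q + 1 + l.length = 0 := by rw [List.length_cons] at h; push_cast at h; omega
    obtain ⟨hinj, hrange⟩ := ih (q + 1) hq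
    have hδ := coneδ_injective M f l q h
    refine ⟨hinj.comp hδ, fun m => ?_⟩
    constructor
    · rintro ⟨x, rfl⟩ g hg
      rw [ev_cons]
      rcases List.mem_cons.mp hg with rfl | hg
      · rw [← map_smul]
        have : g • (coneδ (g • 𝟙 (koszulCx M l)) q (q + 1) rfl).hom x = 0 :=
          (mem_range_coneδ M g l q _).mp ⟨x, rfl⟩
        rw [this, map_zero]
      · exact (hrange _).mp ⟨_, rfl⟩ g hg
    · intro hm
      obtain ⟨y, rfl⟩ := (hrange m).mpr (fun g hg => hm g (List.mem_cons_of_mem _ hg))
      have hfy : f • y = 0 := by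
        apply hinj
        rw [map_smul, map_zero]
        exact hm f List.mem_cons_self
      obtain ⟨x, rfl⟩ := (mem_range_coneδ M f l q y).mpr hfy
      exact ⟨x, rfl⟩

theorem ev_injective (M : ModuleCat.{u} A) (l : List A) (q : ℤ) (h : q + l.length = 0) :
    Function.Injective (ev M l q h) := (ev_spec M l q h).1

theorem mem_range_ev (M : ModuleCat.{u} A) (l : List A) (q : ℤ) (h : q + l.length = 0) (m : M) :
    m ∈ LinearMap.range (ev M l q h) ↔ ∀ f ∈ l, f • m = 0 := (ev_spec M l q h).2 m

/-- naturality in the module -/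
theorem ev_koszulMap {M N : ModuleCat.{u} A} (g : M ⟶ N) : ∀ (l : List A) (q : ℤ)
    (h : q + l.length = 0) (x : (koszulCx M l).homology q),
    ev N l q h ((HomologicalComplex.homologyMap (koszulMap g l) q).hom x) = g.hom (ev M l q h x) := by
  intro l
  induction l with
  | nil =>
    intro q h x
    obtain rfl : q = 0 := by simpa using h
    have key := HomologicalComplex.singleObjHomologySelfIso_hom_naturality
      (ComplexShape.up ℤ) (0 : ℤ) g
    exact congrArg (fun φ => φ.hom x) key
  | cons f l ih =>
    intro q h x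
    rw [ev_cons, ev_cons, ← ih]
    congr 1
    have key := coneδ_naturality (f • 𝟙 (koszulCx M l)) (f • 𝟙 (koszulCx N l))
      (koszulMap g l) (koszulMap g l)
      (by rw [Linear.smul_comp, Linear.comp_smul, Category.id_comp, Category.comp_id]) q (q + 1) rfl
    exact congrArg (fun φ => φ.hom x) key

/-- compatibility with the transition maps -/
theorem ev_koszulTrans (M : ModuleCat.{u} A) (n m : ℕ) (hnm : n ≤ m) : ∀ (l : List A) (q : ℤ)
    (h : q + (l.map (· ^ n)).length = 0) (h' : q + (l.map (· ^ m)).length = 0)
    (x : (koszulCx M (l.map (· ^ n))).homology q),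
    ev M (l.map (· ^ m)) q h' ((HomologicalComplex.homologyMap (koszulTrans M n m hnm l) q).hom x) =
      ev M (l.map (· ^ n)) q h x := by
  intro l
  induction l with
  | nil =>
    intro q h h' x
    have : koszulTrans M n m hnm [] = 𝟙 _ := rfl
    rw [this, HomologicalComplex.homologyMap_id]
    rfl
  | cons f l ih =>
    intro q h h' x
    have hq : q + 1 + ((l.map (· ^ n)).length : ℤ) = 0 := by
      simp only [List.map_cons, List.length_cons, List.length_map] at h ⊢
      push_cast at h
      omega
    have hq' : q + 1 + ((l.map (· ^ m)).length : ℤ) = 0 := by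
      simp only [List.map_cons, List.length_cons, List.length_map] at h' ⊢
      push_cast at h'
      omega
    show ev M (f ^ m :: l.map (· ^ m)) q h' _ = ev M (f ^ n :: l.map (· ^ n)) q h x
    rw [ev_cons, ev_cons, ← ih (q + 1) hq hq']
    congr 1
    have key := coneδ_naturality (f ^ n • 𝟙 (koszulCx M (l.map (· ^ n))))
      (f ^ m • 𝟙 (koszulCx M (l.map (· ^ m))))
      (koszulTrans M n m hnm l) (f ^ (m - n) • koszulTrans M n m hnm l)
      (by simp only [Linear.smul_comp, Linear.comp_smul, Category.id_comp, Category.comp_id, smul_smul,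
          ← pow_add, Nat.sub_add_cancel hnm]) q (q + 1) rfl
    exact congrArg (fun φ => φ.hom x) key

end Groth.Agent.Helper9.KosLim
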