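import Mathlib
import Groth.Agent.Lib.Helper9.KosLim.Bot
import Groth.Agent.Lib.Helper8.Cech5

/-!
# Degree zero: the Koszul direct limit is the power-torsion submodule
-/

namespace Groth.Agent.Helper9.KosLim

open CategoryTheory CategoryTheory.Limits CochainComplex CohIII
open Groth.Agent.Helper8.KoszulLib Groth.Agent.Helper8.LC

universe u

variable {A : Type u} [CommRing A]

theorem exists_uniform_pow {M : Type*} [AddCommGroup M] [Module A M] (m : M) :
    ∀ l : List A, (∀ f ∈ l, ∃ n : ℕ, f ^ n • m = 0) → ∃ n : ℕ, ∀ f ∈ l, f ^ n • m = 0 := by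
  intro l
  induction l with
  | nil => intro _; exact ⟨0, fun f hf => by simp at hf⟩
  | cons g l ih =>
    intro h
    obtain ⟨n₁, hn₁⟩ := h g List.mem_cons_self
    obtain ⟨n₂, hn₂⟩ := ih (fun f hf => h f (List.mem_cons_of_mem _ hf))
    refine ⟨n₁ + n₂, fun f hf => ?_⟩
    rcases List.mem_cons.mp hf with rfl | hf
    · rw [add_comm, pow_add, mul_smul, hn₁, smul_zero]
    · rw [pow_add, mul_smul, hn₂ f hf, smul_zero]

variable (fs : List A) (M : ModuleCat.{u} A) (q : ℤ) (hq : q + fs.length = 0)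

include hq in
theorem hqn (n : ℕ) : q + ((fs.map (· ^ n)).length : ℤ) = 0 := by
  rw [List.length_map]; exact hq

/-- evaluation on the direct limit -/
noncomputable def evLim : TL fs M q →ₗ[A] M :=
  Module.DirectLimit.lift A ℕ (fun n => Hq fs M q n) (fun n m h => trq fs M q n m h)
    (fun n => ev M (fs.map (· ^ n)) q (hqn fs q hq n))
    (fun n m h x => ev_koszulTrans M n m h fs q (hqn fs q hq n) (hqn fs q hq m) x)

theorem evLim_of (n : ℕ) (x : Hq fs M q n) :
    evLim fs M q hq (Module.DirectLimit.of A ℕ (fun n => Hq fs M q n)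
      (fun n m h => trq fs M q n m h) n x) = ev M (fs.map (· ^ n)) q (hqn fs q hq n) x :=
  Module.DirectLimit.lift_of (R := A) (ι := ℕ) (G := fun n => Hq fs M q n)
    (f := fun n m h => trq fs M q n m h) _ _ x

theorem evLim_injective : Function.Injective (evLim fs M q hq) :=
  Module.DirectLimit.lift_injective (R := A) (ι := ℕ) (G := fun n => Hq fs M q n)
    (f := fun n m h => trq fs M q n m h) _ _ (fun n => ev_injective M (fs.map (· ^ n)) q (hqn fs q hq n))

theorem mem_range_evLim (m : M) :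
    m ∈ LinearMap.range (evLim fs M q hq) ↔ ∀ f ∈ fs, ∃ n : ℕ, f ^ n • m = 0 := by
  constructor
  · rintro ⟨x, rfl⟩ f hf
    obtain ⟨n, y, rfl⟩ := Module.DirectLimit.exists_of x
    refine ⟨n, ?_⟩
    rw [evLim_of]
    exact (mem_range_ev M (fs.map (· ^ n)) q (hqn fs q hq n) _).mp ⟨y, rfl⟩ (f ^ n)
      (List.mem_map.mpr ⟨f, hf, rfl⟩)
  · intro h
    obtain ⟨n, hn⟩ := exists_uniform_pow m fs h
    have : m ∈ LinearMap.range (ev M (fs.map (· ^ n)) q (hqn fs q hq n)) := by
      rw [mem_range_ev]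
      intro g hg
      obtain ⟨f, hf, rfl⟩ := List.mem_map.mp hg
      exact hn f hf
    obtain ⟨y, rfl⟩ := this
    exact ⟨Module.DirectLimit.of A ℕ (fun n => Hq fs M q n)
      (fun n m h => trq fs M q n m h) n y, evLim_of fs M q hq n y⟩

theorem range_evLim :
    LinearMap.range (evLim fs M q hq) = LinearMap.range (ev0 (Ideal.span {x | x ∈ fs}) M) := by
  rw [range_ev0]
  ext m
  rw [mem_range_evLim, Groth.Agent.Lib.Helper6.ExtCech.mem_torsionSub_iff]

theorem evLim_natural {M N : ModuleCat.{u} A} (g : M ⟶ N) (x : TL fs M q) :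
    evLim fs N q hq (mapTL g fs q x) = g.hom (evLim fs M q hq x) := by
  obtain ⟨n, y, rfl⟩ := Module.DirectLimit.exists_of x
  unfold mapTL
  rw [Module.DirectLimit.map_apply_of, evLim_of, evLim_of]
  exact ev_koszulMap g (fs.map (· ^ n)) q (hqn fs q hq n) y

/-- the comparison in degree zero -/
noncomputable def Θ : TL fs M q ≃ₗ[A] (localCohomology (Ideal.span {x | x ∈ fs}) 0).obj M :=
  (LinearEquiv.ofInjective (evLim fs M q hq) (evLim_injective fs M q hq)) ≪≫ₗ
    LinearEquiv.ofEq _ _ (range_evLim fs M q hq) ≪≫ₗ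
    (LinearEquiv.ofInjective (ev0 (Ideal.span {x | x ∈ fs}) M) (ev0_injective _ M)).symm

theorem ev0_Θ (x : TL fs M q) :
    ev0 (Ideal.span {x | x ∈ fs}) M (Θ fs M q hq x) = evLim fs M q hq x := by
  unfold Θ
  simp only [LinearEquiv.trans_apply]
  have h := LinearEquiv.apply_symm_apply
    (LinearEquiv.ofInjective (ev0 (Ideal.span {x | x ∈ fs}) M) (ev0_injective _ M))
    (LinearEquiv.ofEq _ _ (range_evLim fs M q hq)
      (LinearEquiv.ofInjective (evLim fs M q hq) (evLim_injective fs M q hq) x))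
  have h' := congrArg Subtype.val h
  exact h'

theorem Θ_natural {M N : ModuleCat.{u} A} (g : M ⟶ N) (x : TL fs M q) :
    Θ fs N q hq (mapTL g fs q x) =
      (localCohomology (Ideal.span {x | x ∈ fs}) 0).map g (Θ fs M q hq x) := by
  apply ev0_injective (Ideal.span {x | x ∈ fs}) N
  rw [ev0_Θ, ev0_map, ev0_Θ, evLim_natural]

end Groth.Agent.Helper9.KosLim
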