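import Mathlib
import Groth.Agent.Lib.Helper9.KosLim.Zero
import Groth.Agent.Lib.Helper8.LC38

/-!
# The Koszul direct limit vanishes on injective modules in positive degrees
-/

namespace Groth.Agent.Helper9.KosLim

open CategoryTheory CategoryTheory.Limits CochainComplex CohIII
open Groth.Agent.Helper8.KoszulLib Groth.Agent.Helper8.LC

universe u

variable {A : Type u} [CommRing A]

section ConeLemmas

variable (M : ModuleCat.{u} A) (f : A) (fs : List A)

/-- `π`-naturality -/
theorem coneδ_trans (q : ℤ) (n m : ℕ) (h : n ≤ m) (ξ : Hq (f :: fs) M q n) :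
    (coneδ (f ^ m • 𝟙 (koszulCx M (fs.map (· ^ m)))) q (q + 1) rfl).hom
        (trq (f :: fs) M q n m h ξ) =
      trq fs M (q + 1) n m h
        ((coneδ (f ^ n • 𝟙 (koszulCx M (fs.map (· ^ n)))) q (q + 1) rfl).hom ξ) := by
  have key := coneδ_naturality (f ^ n • 𝟙 (koszulCx M (fs.map (· ^ n))))
    (f ^ m • 𝟙 (koszulCx M (fs.map (· ^ m))))
    (koszulTrans M n m h fs) (f ^ (m - n) • koszulTrans M n m h fs)
    (by simp only [Linear.smul_comp, Linear.comp_smul, Category.id_comp, Category.comp_id, smul_smul,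
        ← pow_add, Nat.sub_add_cancel h]) q (q + 1) rfl
  exact congrArg (fun φ => φ.hom ξ) key

/-- `ι`-naturality -/
theorem inr_trans (q : ℤ) (m l : ℕ) (h : m ≤ l) (ζ : Hq fs M q m) :
    trq (f :: fs) M q m l h
        ((HomologicalComplex.homologyMap
          (mappingCone.inr (f ^ m • 𝟙 (koszulCx M (fs.map (· ^ m))))) q).hom ζ) =
      (HomologicalComplex.homologyMap
          (mappingCone.inr (f ^ l • 𝟙 (koszulCx M (fs.map (· ^ l))))) q).hom
        (f ^ (l - m) • trq fs M q m l h ζ) := by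
  have key := homologyMap_inr_map (f ^ m • 𝟙 (koszulCx M (fs.map (· ^ m))))
    (f ^ l • 𝟙 (koszulCx M (fs.map (· ^ l))))
    (koszulTrans M m l h fs) (f ^ (l - m) • koszulTrans M m l h fs)
    (by simp only [Linear.smul_comp, Linear.comp_smul, Category.id_comp, Category.comp_id, smul_smul,
        ← pow_add, Nat.sub_add_cancel h]) q
  have key' := congrArg (fun φ => φ.hom ζ) key
  rw [homologyMap_smul'] at key'
  exact key'

theorem inr_smul_eq_zero (q : ℤ) (l : ℕ) (ζ : Hq fs M q l) :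
    (HomologicalComplex.homologyMap
        (mappingCone.inr (f ^ l • 𝟙 (koszulCx M (fs.map (· ^ l))))) q).hom (f ^ l • ζ) = 0 := by
  have key := cone_comp₂ (f ^ l • 𝟙 (koszulCx M (fs.map (· ^ l)))) q
  have key' := congrArg (fun φ => φ.hom ζ) key
  rw [homologyMap_smul_id] at key'
  exact key'

theorem exists_inr_eq (q : ℤ) (m : ℕ) (y : Hq (f :: fs) M q m)
    (hy : (coneδ (f ^ m • 𝟙 (koszulCx M (fs.map (· ^ m)))) q (q + 1) rfl).hom y = 0) :
    ∃ ζ : Hq fs M q m, (HomologicalComplex.homologyMap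
        (mappingCone.inr (f ^ m • 𝟙 (koszulCx M (fs.map (· ^ m))))) q).hom ζ = y := by
  have hex := cone_exact₃ (f ^ m • 𝟙 (koszulCx M (fs.map (· ^ m)))) q (q + 1) rfl
  rw [ShortComplex.ShortExact.moduleCat_exact_iff_function_exact] at hex
  exact (hex y).mp hy

end ConeLemmas

section Injective

variable [IsNoetherianRing A] (E : Type u) [AddCommGroup E] [Module A E] [Module.Injective A E]

/-- the divisibility statement in the bottom degree -/
theorem exists_smul_trq_eq (f : A) (fs : List A) (q : ℤ) (hq : q + fs.length = 0) (m : ℕ)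
    (ζ : Hq fs (ModuleCat.of A E) q m) :
    ∃ (l : ℕ) (h : m ≤ l) (ζ' : Hq fs (ModuleCat.of A E) q l),
      f ^ (l - m) • trq fs (ModuleCat.of A E) q m l h ζ = f ^ l • ζ' := by
  let I : Ideal A := Ideal.span {x | x ∈ fs}
  let x : E := ev (ModuleCat.of A E) (fs.map (· ^ m)) q (hqn fs q hq m) ζ
  have hx : ∀ g ∈ fs, g ^ m • x = 0 := by
    intro g hg
    exact (mem_range_ev (ModuleCat.of A E) (fs.map (· ^ m)) q (hqn fs q hq m) x).mp ⟨ζ, rfl⟩
      (g ^ m) (List.mem_map.mpr ⟨g, hg, rfl⟩)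
  have hxI : x ∈ DRing.torsionSub I E := by
    rw [Groth.Agent.Lib.Helper6.ExtCech.mem_torsionSub_iff]
    exact fun g hg => ⟨m, hx g hg⟩
  haveI : Module.Injective A (DRing.torsionSub I E) := torsionSub_injective I E
  obtain ⟨e', k, hk⟩ := exists_div_of_injective (DRing.torsionSub I E) f m ⟨x, hxI⟩
  have hk' : f ^ k • x = f ^ (k + m) • (e' : E) := by
    have := congrArg Subtype.val hk
    simp only [Submodule.coe_smul, Submodule.coe_sub, Submodule.coe_zero, smul_sub] at this
    rw [sub_eq_zero] at this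
    rw [this, pow_add, mul_smul]
  obtain ⟨N, hN⟩ := exists_uniform_pow (e' : E) fs
    ((Groth.Agent.Lib.Helper6.ExtCech.mem_torsionSub_iff fs E e').mp e'.2)
  let l := max N (k + m)
  have hml : m ≤ l := le_trans (Nat.le_add_left m k) (le_max_right _ _)
  have he' : (e' : E) ∈ LinearMap.range
      (ev (ModuleCat.of A E) (fs.map (· ^ l)) q (hqn fs q hq l)) := by
    rw [mem_range_ev]
    intro g hg
    obtain ⟨g₀, hg₀, rfl⟩ := List.mem_map.mp hg
    have hNl : N ≤ l := le_max_left _ _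
    show g₀ ^ l • (e' : E) = 0
    rw [← Nat.sub_add_cancel hNl, pow_add, mul_smul, hN g₀ hg₀, smul_zero]
  obtain ⟨ζ', hζ'⟩ := he'
  refine ⟨l, hml, ζ', ?_⟩
  apply ev_injective (ModuleCat.of A E) (fs.map (· ^ l)) q (hqn fs q hq l)
  rw [map_smul, map_smul, hζ']
  have h1 : ev (ModuleCat.of A E) (fs.map (· ^ l)) q (hqn fs q hq l)
      (trq fs (ModuleCat.of A E) q m l hml ζ) = x :=
    ev_koszulTrans (ModuleCat.of A E) m l hml fs q (hqn fs q hq m) (hqn fs q hq l) ζ
  rw [h1]
  have hkl : k + m ≤ l := le_max_right _ _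
  have e1 : l - m = (l - (k + m)) + k := by omega
  have e2 : l = (l - (k + m)) + (k + m) := by omega
  rw [e1, pow_add, mul_smul, hk', ← mul_smul, ← pow_add, ← e2]

theorem exists_trq_eq_zero : ∀ (fs : List A) (q : ℤ), 0 < q + fs.length → ∀ (n : ℕ)
    (ξ : Hq fs (ModuleCat.of A E) q n), ∃ m, ∃ h : n ≤ m, trq fs (ModuleCat.of A E) q n m h ξ = 0 := by
  intro fs
  induction fs with
  | nil =>
    intro q hq n ξ
    have hz : IsZero (Hq [] (ModuleCat.of A E) q n) :=
      HomologicalComplex.isZero_single_obj_homology _ _ _ _ (by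
        simp only [List.length_nil, Nat.cast_zero, add_zero] at hq
        omega)
    have hs : Subsingleton (Hq [] (ModuleCat.of A E) q n) := ModuleCat.subsingleton_of_isZero hz
    exact ⟨n, le_rfl, by rw [hs.elim ξ 0, map_zero]⟩
  | cons f fs ih =>
    intro q hq n ξ
    have hq1 : 0 < q + 1 + (fs.length : ℤ) := by
      rw [List.length_cons] at hq; push_cast at hq; omega
    -- step 1
    obtain ⟨m, hnm, hm⟩ := ih (q + 1) hq1 n
      ((coneδ (f ^ n • 𝟙 (koszulCx (ModuleCat.of A E) (fs.map (· ^ n)))) q (q + 1) rfl).hom ξ)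
    have h2 := coneδ_trans (ModuleCat.of A E) f fs q n m hnm ξ
    rw [hm] at h2
    obtain ⟨ζ, hζ⟩ := exists_inr_eq (ModuleCat.of A E) f fs q m _ h2
    -- step 3
    have key : ∃ (l : ℕ) (h : m ≤ l) (ζ' : Hq fs (ModuleCat.of A E) q l),
        f ^ (l - m) • trq fs (ModuleCat.of A E) q m l h ζ = f ^ l • ζ' := by
      by_cases hq0 : q + (fs.length : ℤ) = 0
      · exact exists_smul_trq_eq E f fs q hq0 m ζ
      · have hqpos : 0 < q + (fs.length : ℤ) := by omega
        obtain ⟨l, hml, hl⟩ := ih q hqpos m ζ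
        exact ⟨l, hml, 0, by rw [hl, smul_zero, smul_zero]⟩
    obtain ⟨l, hml, ζ', hl⟩ := key
    refine ⟨l, hnm.trans hml, ?_⟩
    rw [← trq_trq (f :: fs) (ModuleCat.of A E) q n m l hnm hml, ← hζ,
      inr_trans (ModuleCat.of A E) f fs q m l hml ζ, hl]
    exact inr_smul_eq_zero (ModuleCat.of A E) f fs q l ζ'

theorem subsingleton_TL_of_injective (fs : List A) (q : ℤ) (hq : 0 < q + fs.length) :
    Subsingleton (TL fs (ModuleCat.of A E) q) :=
  dl_subsingleton_of_forall _ (fun n ξ => exists_trq_eq_zero E fs q hq n ξ)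

end Injective

end Groth.Agent.Helper9.KosLim
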