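import Mathlib
import Groth.Agent.Lib.Helper9.KosLim.Cone
import Groth.Agent.Lib.Helper9.KosLim.DL
import Groth.Agent.Lib.Helper8.Koszul3

/-!
# Top Koszul cohomology as a quotient of the module
-/

namespace Groth.Agent.Helper9.KosLim

open CategoryTheory CategoryTheory.Limits CochainComplex CohIII
open Groth.Agent.Helper8.KoszulLib

universe u

variable {A : Type u} [CommRing A]

/-- the projection of the module onto the top Koszul cohomology -/
noncomputable def top (M : ModuleCat.{u} A) : ∀ (l : List A), M →ₗ[A] (koszulCx M l).homology 0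
  | [] => (HomologicalComplex.singleObjHomologySelfIso (ComplexShape.up ℤ) 0 M).inv.hom
  | f :: l => (HomologicalComplex.homologyMap (mappingCone.inr (f • 𝟙 (koszulCx M l))) 0).hom ∘ₗ top M l

theorem top_cons (M : ModuleCat.{u} A) (f : A) (l : List A) (x : M) :
    top M (f :: l) x =
      (HomologicalComplex.homologyMap (mappingCone.inr (f • 𝟙 (koszulCx M l))) 0).hom (top M l x) :=
  rfl

theorem inr_surjective (M : ModuleCat.{u} A) (f : A) (l : List A) :
    Function.Surjective
      (HomologicalComplex.homologyMap (mappingCone.inr (f • 𝟙 (koszulCx M l))) 0).hom := by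
  have hex := cone_exact₃ (f • 𝟙 (koszulCx M l)) 0 (0 + 1) rfl
  rw [ShortComplex.ShortExact.moduleCat_exact_iff_function_exact] at hex
  have hz : IsZero ((koszulCx M l).homology (0 + 1)) := isZero_homology_of_pos M l (0 + 1) (by norm_num)
  have hs : Subsingleton ((koszulCx M l).homology (0 + 1)) := ModuleCat.subsingleton_of_isZero hz
  intro y
  exact (hex y).mp (hs.elim _ _)

theorem inr_eq_zero_iff (M : ModuleCat.{u} A) (f : A) (l : List A)
    (y : (koszulCx M l).homology 0) :
    (HomologicalComplex.homologyMap (mappingCone.inr (f • 𝟙 (koszulCx M l))) 0).hom y = 0 ↔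
      ∃ z : (koszulCx M l).homology 0, f • z = y := by
  have hex := cone_exact₂ (f • 𝟙 (koszulCx M l)) 0
  rw [ShortComplex.ShortExact.moduleCat_exact_iff_function_exact] at hex
  have h2 : ∀ z, (HomologicalComplex.homologyMap (f • 𝟙 (koszulCx M l)) 0).hom z = f • z := by
    intro z
    rw [homologyMap_smul_id]
    rfl
  constructor
  · intro hy
    obtain ⟨z, hz⟩ := (hex y).mp hy
    exact ⟨z, by rw [← h2]; exact hz⟩
  · rintro ⟨z, rfl⟩
    rw [← h2]
    exact (hex _).mpr ⟨z, rfl⟩

theorem top_spec (M : ModuleCat.{u} A) : ∀ (l : List A),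
    Function.Surjective (top M l) ∧
      ∀ x : M, top M l x = 0 ↔ x ∈ (Ideal.span {a | a ∈ l} • (⊤ : Submodule A M)) := by
  intro l
  induction l with
  | nil =>
    have hbij : Function.Bijective (top M []) :=
      ConcreteCategory.bijective_of_isIso
        (HomologicalComplex.singleObjHomologySelfIso (ComplexShape.up ℤ) 0 M).inv
    refine ⟨hbij.2, fun x => ?_⟩
    have h0 : (Ideal.span {a : A | a ∈ ([] : List A)} • (⊤ : Submodule A M)) = ⊥ := by
      have : {a : A | a ∈ ([] : List A)} = ∅ := by ext; simp
      rw [this, Ideal.span_empty, Submodule.bot_smul]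
    rw [h0, Submodule.mem_bot]
    constructor
    · intro hx
      exact hbij.1 (by rw [hx, map_zero])
    · rintro rfl
      exact map_zero _
  | cons f l ih =>
    obtain ⟨hsurj, hker⟩ := ih
    refine ⟨(inr_surjective M f l).comp hsurj, fun x => ?_⟩
    have h1 : top M (f :: l) x = 0 ↔ ∃ z : (koszulCx M l).homology 0, f • z = top M l x :=
      inr_eq_zero_iff M f l (top M l x)
    rw [h1]
    have hspan : Ideal.span {a | a ∈ f :: l} = Ideal.span {f} ⊔ Ideal.span {a | a ∈ l} := by
      rw [← Ideal.span_union]
      congr 1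
      ext a
      simp
    rw [hspan, Submodule.sup_smul]
    constructor
    · rintro ⟨z, hz⟩
      obtain ⟨y, rfl⟩ := hsurj z
      have h1 : top M l (x - f • y) = 0 := by rw [map_sub, map_smul, hz, sub_self]
      have h2 := (hker _).mp h1
      have h3 : f • y ∈ Ideal.span {f} • (⊤ : Submodule A M) :=
        Submodule.smul_mem_smul (Ideal.subset_span rfl) trivial
      have : x = f • y + (x - f • y) := by abel
      rw [this]
      exact Submodule.add_mem_sup h3 h2
    · intro hx
      obtain ⟨u, hu, v, hv, rfl⟩ := Submodule.mem_sup.mp hx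
      have hu' : ∃ y : M, u = f • y := by
        rw [Submodule.ideal_span_singleton_smul] at hu
        obtain ⟨y, -, rfl⟩ := (Submodule.mem_smul_pointwise_iff_exists _ _ _).mp hu
        exact ⟨y, rfl⟩
      obtain ⟨y, rfl⟩ := hu'
      refine ⟨top M l y, ?_⟩
      rw [map_add, map_smul, (hker v).mpr hv, add_zero]

theorem top_surjective (M : ModuleCat.{u} A) (l : List A) : Function.Surjective (top M l) :=
  (top_spec M l).1

theorem top_eq_zero_iff (M : ModuleCat.{u} A) (l : List A) (x : M) :
    top M l x = 0 ↔ x ∈ (Ideal.span {a | a ∈ l} • (⊤ : Submodule A M)) := (top_spec M l).2 x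

/-- compatibility with the transition maps: multiplication by the product of the powers -/
theorem top_koszulTrans (M : ModuleCat.{u} A) (n m : ℕ) (hnm : n ≤ m) : ∀ (l : List A) (x : M),
    (HomologicalComplex.homologyMap (koszulTrans M n m hnm l) 0).hom (top M (l.map (· ^ n)) x) =
      top M (l.map (· ^ m)) ((l.map (· ^ (m - n))).prod • x) := by
  intro l
  induction l with
  | nil =>
    intro x
    have : koszulTrans M n m hnm [] = 𝟙 _ := rfl
    rw [this, HomologicalComplex.homologyMap_id]
    simp only [List.map_nil, List.prod_nil, one_smul]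
    rfl
  | cons f l ih =>
    intro x
    show (HomologicalComplex.homologyMap (koszulTrans M n m hnm (f :: l)) 0).hom
        (top M (f ^ n :: l.map (· ^ n)) x) =
      top M (f ^ m :: l.map (· ^ m)) ((f ^ (m - n) * (l.map (· ^ (m - n))).prod) • x)
    have key := homologyMap_inr_map (f ^ n • 𝟙 (koszulCx M (l.map (· ^ n))))
      (f ^ m • 𝟙 (koszulCx M (l.map (· ^ m))))
      (koszulTrans M n m hnm l) (f ^ (m - n) • koszulTrans M n m hnm l)
      (by simp only [Linear.smul_comp, Linear.comp_smul, Category.id_comp, Category.comp_id, smul_smul,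
          ← pow_add, Nat.sub_add_cancel hnm]) 0
    have key' := congrArg (fun φ => φ.hom (top M (l.map (· ^ n)) x)) key
    rw [homologyMap_smul'] at key'
    have e1 : (HomologicalComplex.homologyMap (koszulTrans M n m hnm (f :: l)) 0).hom
        (top M (f ^ n :: l.map (· ^ n)) x) =
      (HomologicalComplex.homologyMap
          (mappingCone.inr (f ^ m • 𝟙 (koszulCx M (l.map (· ^ m))))) 0).hom
        (f ^ (m - n) • (HomologicalComplex.homologyMap (koszulTrans M n m hnm l) 0).hom
          (top M (l.map (· ^ n)) x)) := key'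
    rw [e1, ih x, ← map_smul, smul_smul]
    rfl

end Groth.Agent.Helper9.KosLim
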